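import Mathlib

/-! Manning's theorem: point stabilisers of extremely primitive groups act faithfully on their orbits. -/

namespace CfsgLib.Extremely

open MulAction

variable {G : Type*} [Group G] {Ω : Type*} [MulAction G Ω]

/-- A subgroup normalised by the point stabiliser fixes or is transitive on each of its orbits. -/
theorem fix_or_transitive {α : Ω} {ω : Ω}
    (hep : IsPreprimitive (stabilizer G α) (orbit (stabilizer G α) ω))
    (M : Subgroup G) (hMle : M ≤ stabilizer G α)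
    (hMn : ∀ h ∈ stabilizer G α, ∀ m ∈ M, h * m * h⁻¹ ∈ M)
    {γ : Ω} (hγ : γ ∈ orbit (stabilizer G α) ω) :
    (∀ x ∈ orbit (stabilizer G α) ω, ∀ m ∈ M, m • x = x) ∨
      (∀ x ∈ orbit (stabilizer G α) ω, ∃ m ∈ M, m • γ = x) := by
  classical
  let B : Set (orbit (stabilizer G α) ω) := {z | ∃ m ∈ M, m • γ = (z : Ω)}
  have hB : IsBlock (stabilizer G α) B := by
    rw [isBlock_iff_smul_eq_of_nonempty]
    rintro h ⟨z, ⟨y, ⟨m, hm, hy⟩, rfl⟩, m', hm', hz⟩
    have hz' : m' • γ = (h : G) • (y : Ω) := hz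
    -- `h • γ` lies in the same orbit of `M`
    have hhγ : ∃ m₀ ∈ M, m₀ • γ = (h : G) • γ := by
      refine ⟨((h : G) * m * (h : G)⁻¹)⁻¹ * m', M.mul_mem (M.inv_mem (hMn _ h.2 m hm)) hm', ?_⟩
      rw [mul_smul, hz', ← hy, smul_smul, smul_smul]
      congr 1
      group
    obtain ⟨m₀, hm₀, h₀⟩ := hhγ
    ext u
    constructor
    · rintro ⟨v, ⟨k, hk, hv⟩, rfl⟩
      refine ⟨(h : G) * k * (h : G)⁻¹ * m₀, M.mul_mem (hMn _ h.2 k hk) hm₀, ?_⟩
      show _ = (h : G) • (v : Ω)
      rw [mul_smul, h₀, smul_smul, ← hv, smul_smul]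
      congr 1
      group
    · rintro ⟨k, hk, hu⟩
      refine ⟨h⁻¹ • u, ⟨(h : G)⁻¹ * (k * m₀⁻¹) * (h : G),
        by simpa using hMn _ (inv_mem h.2) _ (M.mul_mem hk (M.inv_mem hm₀)), ?_⟩, smul_inv_smul h u⟩
      show _ = (h : G)⁻¹ • (u : Ω)
      rw [mul_smul, ← h₀, smul_smul, ← hu, smul_smul]
      congr 1
      group
  have hγB : (⟨γ, hγ⟩ : orbit (stabilizer G α) ω) ∈ B := ⟨1, M.one_mem, one_smul _ _⟩
  rcases hep.isTrivialBlock_of_isBlock hB with hs | hu
  · left
    intro x hx m hm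
    have hfix : ∀ k ∈ M, k • γ = γ := by
      intro k hk
      have hkmem : k • γ ∈ orbit (stabilizer G α) ω := by
        obtain ⟨a, ha⟩ := hγ
        exact ⟨⟨k, hMle hk⟩ * a, (mul_smul _ _ _).trans (congrArg (k • ·) ha)⟩
      exact congrArg Subtype.val (hs (show (⟨k • γ, hkmem⟩ : orbit (stabilizer G α) ω) ∈ B
        from ⟨k, hk, rfl⟩) hγB)
    obtain ⟨a, ha⟩ : ∃ a ∈ stabilizer G α, a • γ = x := by
      obtain ⟨b, hb⟩ := hγ
      obtain ⟨c, hc⟩ := hx
      refine ⟨(c : G) * (b : G)⁻¹, mul_mem c.2 (inv_mem b.2), ?_⟩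
      have hb' : (b : G) • ω = γ := hb
      have hc' : (c : G) • ω = x := hc
      rw [← hb', mul_smul, inv_smul_smul, hc']
    rw [← ha.2]
    conv_rhs => rw [← hfix _ (show a⁻¹ * m * a ∈ M by simpa using hMn _ (inv_mem ha.1) m hm)]
    rw [smul_smul, smul_smul]
    congr 1
    group
  · right
    intro x hx
    obtain ⟨m, hm, h⟩ : (⟨x, hx⟩ : orbit (stabilizer G α) ω) ∈ B := hu ▸ Set.mem_univ _
    exact ⟨m, hm, h⟩

variable [Finite G] [Finite Ω] [FaithfulSMul G Ω]

/-- Manning's theorem. -/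
theorem manning (hprim : IsPreprimitive G Ω)
    (hep : ∀ (α : Ω) (ω : Ω), IsPreprimitive (stabilizer G α) (orbit (stabilizer G α) ω))
    (α ω : Ω) (hω : ω ≠ α) (h : G) (hh : h • α = α)
    (hfix : ∀ g ∈ stabilizer G α, h • g • ω = g • ω) : h = 1 := by
  classical
  haveI : IsPretransitive G Ω := hprim.toIsPretransitive
  let R : Ω → Ω → Prop := fun x y => ∃ g : G, g • α = x ∧ g • ω = y
  have hRinv : ∀ (g : G) {x y}, R x y → R (g • x) (g • y) := by
    rintro g x y ⟨k, rfl, rfl⟩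
    exact ⟨g * k, mul_smul _ _ _, mul_smul _ _ _⟩
  have hRiff : ∀ (g : G) (x y : Ω), R (g • x) (g • y) ↔ R x y := fun g x y =>
    ⟨fun r => by simpa using hRinv g⁻¹ r, hRinv g⟩
  have hirr : ∀ x, ¬ R x x := by
    rintro x ⟨g, h1, h2⟩
    exact hω (smul_left_cancel g (h2.trans h1.symm))
  have hout : ∀ y, R α y ↔ ∃ g ∈ stabilizer G α, g • ω = y :=
    fun y => ⟨fun ⟨g, a, b⟩ => ⟨g, a, b⟩, fun ⟨g, a, b⟩ => ⟨g, a, b⟩⟩
  -- the kernel of the action on the suborbit
  let K : Ω → Subgroup G := fun x => stabilizer G x ⊓ ⨅ y ∈ {y | R x y}, stabilizer G y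
  have hKmem : ∀ x k, k ∈ K x ↔ k • x = x ∧ ∀ y, R x y → k • y = y := by
    intro x k
    simp only [K, Subgroup.mem_inf, Subgroup.mem_iInf, Set.mem_setOf_eq, mem_stabilizer_iff]
  have hhK : h ∈ K α := (hKmem _ _).2 ⟨hh, fun y hy => by
    obtain ⟨g, hg, rfl⟩ := (hout y).1 hy; exact hfix g hg⟩
  by_contra hne
  have hcount : ∀ γ : Ω, Nat.card {x // R x γ} = Nat.card {y // R α y} := by
    have hsame : ∀ x, Nat.card {y // R x y} = Nat.card {y // R α y} := fun x => by
      obtain ⟨g, rfl⟩ := exists_smul_eq G α x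
      exact (Nat.card_congr ((MulAction.toPerm g).subtypeEquiv fun y => (hRiff g α y).symm)).symm
    have hsame' : ∀ x, Nat.card {z // R z x} = Nat.card {z // R z α} := fun x => by
      obtain ⟨g, rfl⟩ := exists_smul_eq G α x
      exact (Nat.card_congr ((MulAction.toPerm g).subtypeEquiv fun z => (hRiff g z α).symm)).symm
    have e1 : Nat.card {p : Ω × Ω // R p.1 p.2} = Nat.card Ω * Nat.card {y // R α y} :=
      calc _ = Nat.card (Σ x, {y // R x y}) := Nat.card_congr (Equiv.subtypeProdEquivSigmaSubtype R)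
        _ = Nat.card (Σ _x : Ω, {y // R α y}) :=
          Nat.card_congr (Equiv.sigmaCongrRight fun x => (Classical.choice (Finite.card_eq.1 (hsame x))))
        _ = _ := by rw [Nat.card_congr (Equiv.sigmaEquivProd _ _), Nat.card_prod]
    have e2 : Nat.card {p : Ω × Ω // R p.1 p.2} = Nat.card Ω * Nat.card {z // R z α} :=
      calc _ = Nat.card {p : Ω × Ω // R p.2 p.1} :=
            Nat.card_congr ((Equiv.prodComm Ω Ω).subtypeEquiv fun _ => Iff.rfl)
        _ = Nat.card (Σ x, {z // R z x}) :=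
            Nat.card_congr (Equiv.subtypeProdEquivSigmaSubtype fun a b => R b a)
        _ = Nat.card (Σ _x : Ω, {z // R z α}) :=
          Nat.card_congr (Equiv.sigmaCongrRight fun x => (Classical.choice (Finite.card_eq.1 (hsame' x))))
        _ = _ := by rw [Nat.card_congr (Equiv.sigmaEquivProd _ _), Nat.card_prod]
    intro γ
    have : 0 < Nat.card Ω := Nat.card_pos_iff.2 ⟨⟨α⟩, inferInstance⟩
    rw [hsame' γ, ← Nat.eq_of_mul_eq_mul_left this (e1.symm.trans e2)]
  -- the kernel at `α` lies in the kernel at each point of the suborbit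
  have hle : ∀ β, R α β → ∀ k ∈ K α, k ∈ K β := by
    intro β hβ k hk
    refine (hKmem _ _).2 ⟨((hKmem _ _).1 hk).2 β hβ, fun γ hγ => ?_⟩
    by_contra hmv
    have hconj : ∀ a ∈ stabilizer G α, ∀ m ∈ K α, a * m * a⁻¹ ∈ K α := by
      intro a ha m hm
      obtain ⟨m1, m2⟩ := (hKmem _ _).1 hm
      refine (hKmem _ _).2 ⟨?_, fun y hy => ?_⟩
      · rw [mul_smul, mul_smul, inv_smul_eq_iff.2 ha.symm, m1, ha]
      · have : R α (a⁻¹ • y) := by
          have := hRinv a⁻¹ hy
          rwa [inv_smul_eq_iff.2 ha.symm] at this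
        rw [mul_smul, mul_smul, m2 _ this, smul_inv_smul]
    rcases fix_or_transitive (hep α γ) (K α) (fun m hm => ((hKmem _ _).1 hm).1) hconj
      (mem_orbit_self γ) with hf | ht
    · exact hmv (hf γ (mem_orbit_self γ) k hk)
    -- every point of the orbit of `γ` has in-neighbourhood equal to the suborbit
    have hall : ∀ z ∈ orbit (stabilizer G α) γ, ∀ x, R x z ↔ R α x := by
      intro z hz
      have hsub : ∀ x, R α x → R x z := by
        intro x hx
        obtain ⟨a, ha, rfl⟩ := (hout x).1 hx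
        obtain ⟨b, hb, rfl⟩ := (hout β).1 hβ
        have hzin : (a * b⁻¹)⁻¹ • z ∈ orbit (stabilizer G α) γ := by
          obtain ⟨c, rfl⟩ := hz
          exact ⟨⟨(a * b⁻¹)⁻¹, inv_mem (mul_mem ha (inv_mem hb))⟩ * c, mul_smul _ _ _⟩
        obtain ⟨m, hm, hmz⟩ := ht _ hzin
        have h1 := hRinv (a * b⁻¹) (hRinv m hγ)
        rw [hmz, smul_inv_smul, ((hKmem _ _).1 hm).2 _ hβ, mul_smul, inv_smul_smul] at h1
        exact h1
      have hset : {x | R α x} = {x | R x z} :=
        Set.eq_of_subset_of_ncard_le (fun x hx => hsub x hx)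
          (by rw [← Nat.card_coe_set_eq, ← Nat.card_coe_set_eq]; exact (hcount z).le) (Set.toFinite _)
      exact fun x => (Set.ext_iff.1 hset x).symm
    let B : Set Ω := {z | ∀ x, R x z ↔ R x γ}
    have hB : IsBlock G B := by
      rw [isBlock_iff_smul_eq_of_nonempty]
      rintro g ⟨z, ⟨y, hy, rfl⟩, hz⟩
      have key : ∀ x, R (g⁻¹ • x) γ ↔ R x γ := fun x => by
        rw [← hy, ← hz x, ← hRiff g, smul_inv_smul]
      ext u
      constructor
      · rintro ⟨v, hv, rfl⟩ x
        rw [← key x, ← hv, ← hRiff g (g⁻¹ • x) v, smul_inv_smul]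
      · intro hu
        refine ⟨g⁻¹ • u, fun x => ?_, smul_inv_smul g u⟩
        rw [← hRiff g, smul_inv_smul, hu (g • x), ← key (g • x), inv_smul_smul]
    have hkγ : k • γ ∈ orbit (stabilizer G α) γ := ⟨⟨k, ((hKmem _ _).1 hk).1⟩, rfl⟩
    rcases hprim.isTrivialBlock_of_isBlock hB with hs | hu
    · exact hmv (hs (fun x => (hall _ hkγ x).trans (hall γ (mem_orbit_self γ) x).symm)
        (fun x => Iff.rfl))
    · have : R β β := ((Set.eq_univ_iff_forall.1 hu β) β).2 hγ
      exact hirr β this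
  -- so it is normalised by an element moving `α`
  obtain ⟨β, hβ⟩ : ∃ β, R α β := ⟨ω, 1, one_smul _ _, one_smul _ _⟩
  obtain ⟨g, rfl⟩ := exists_smul_eq G α β
  have hg : g ∈ Subgroup.normalizer (K α : Set G) := by
    have hinc : ∀ k ∈ K α, g⁻¹ * k * g ∈ K α := by
      intro k hk
      obtain ⟨k1, k2⟩ := (hKmem _ _).1 (hle _ hβ k hk)
      refine (hKmem _ _).2 ⟨?_, fun y hy => ?_⟩
      · rw [mul_smul, mul_smul, k1, inv_smul_smul]
      · rw [mul_smul, mul_smul, k2 _ (hRinv g hy), inv_smul_smul]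
    have hbij : Function.Bijective (fun k : K α => (⟨g⁻¹ * k * g, hinc k k.2⟩ : K α)) :=
      Finite.injective_iff_bijective.1 fun a b e => by
        simpa using congrArg Subtype.val e
    rw [Subgroup.mem_normalizer_iff]
    intro n
    constructor
    · intro hn
      obtain ⟨k, hk⟩ := hbij.2 ⟨n, hn⟩
      have hk' : g⁻¹ * (k : G) * g = n := congrArg Subtype.val hk
      have : (k : G) = g * n * g⁻¹ := by rw [← hk']; group
      rw [← this]; exact k.2
    · intro hn
      simpa [mul_assoc] using hinc _ hn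
  have hS : stabilizer G α ≤ Subgroup.normalizer (K α : Set G) := by
    intro a ha
    rw [Subgroup.mem_normalizer_iff]
    have key : ∀ b ∈ stabilizer G α, ∀ n ∈ K α, b * n * b⁻¹ ∈ K α := by
      intro b hb n hn
      obtain ⟨m1, m2⟩ := (hKmem _ _).1 hn
      refine (hKmem _ _).2 ⟨?_, fun y hy => ?_⟩
      · rw [mul_smul, mul_smul, inv_smul_eq_iff.2 hb.symm, m1, hb]
      · have hy' : R α (b⁻¹ • y) := by
          have := hRinv b⁻¹ hy
          rwa [inv_smul_eq_iff.2 hb.symm] at this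
        rw [mul_smul, mul_smul, m2 _ hy', smul_inv_smul]
    intro n
    exact ⟨key a ha n, fun hn => by simpa [mul_assoc] using key a⁻¹ (inv_mem ha) _ hn⟩
  haveI : Nontrivial Ω := ⟨⟨ω, α, hω⟩⟩
  have hmax := IsPreprimitive.isCoatom_stabilizer_of_isPreprimitive G α
  rcases hmax.le_iff.1 hS with htop | heq
  · refine hne (FaithfulSMul.eq_of_smul_eq_smul (α := Ω) fun x => ?_)
    obtain ⟨a, rfl⟩ := exists_smul_eq G α x
    have : a⁻¹ ∈ Subgroup.normalizer (K α : Set G) := htop ▸ Subgroup.mem_top _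
    have hm := (Subgroup.mem_normalizer_iff.1 this h).1 hhK
    have := ((hKmem _ _).1 hm).1
    rw [inv_inv, mul_smul, mul_smul, inv_smul_eq_iff] at this
    rw [one_smul, this]
  · have hgα : g • α = α := by
      have : g ∈ stabilizer G α := heq ▸ hg
      exact this
    exact hirr α (by rwa [hgα] at hβ)

end CfsgLib.Extremely
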