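import Cfsg.Agent.Extremely.Basic

/-! Normal subgroups of a point stabiliser of an extremely primitive group. -/

namespace CfsgLib.Extremely

open MulAction

/-- A representation on a finite module over `ZMod q` given by matrices. -/
theorem exists_hom_GL {H M : Type*} [Group H] [AddCommGroup M] [Finite M] (q e : ℕ) [hq : Fact q.Prime]
    [Module (ZMod q) M] (hcard : Nat.card M = q ^ e) (ρ : H →* AddMonoid.End M) :
    ∃ φ : H →* GL (Fin e) (ZMod q), ∀ h, φ h = 1 ↔ ∀ x, ρ h x = x := by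
  classical
  haveI : Module.Finite (ZMod q) M := Module.Finite.of_finite
  have hdim : Module.finrank (ZMod q) M = e := by
    have h := Module.natCard_eq_pow_finrank (K := ZMod q) (V := M)
    rw [hcard, Nat.card_zmod] at h
    exact (Nat.pow_right_injective hq.out.two_le h).symm
  let b := Module.finBasisOfFinrankEq (ZMod q) M hdim
  let L : H →* Module.End (ZMod q) M :=
    { toFun := fun h => AddMonoidHom.toZModLinearMap q (ρ h)
      map_one' := by ext x; show ρ 1 x = x; rw [map_one]; rfl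
      map_mul' := fun g h => by ext x; show ρ (g * h) x = ρ g (ρ h x); rw [map_mul]; rfl }
  let μ : H →* Matrix (Fin e) (Fin e) (ZMod q) :=
    ((LinearMap.toMatrixAlgEquiv b).toAlgHom.toMonoidHom).comp L
  refine ⟨μ.toHomUnits, fun h => ?_⟩
  rw [Units.ext_iff, MonoidHom.coe_toHomUnits, Units.val_one]
  show LinearMap.toMatrixAlgEquiv b (L h) = 1 ↔ _
  rw [← map_one (LinearMap.toMatrixAlgEquiv b), (LinearMap.toMatrixAlgEquiv b).injective.eq_iff]
  exact ⟨fun h1 x => LinearMap.congr_fun h1 x, fun h1 => LinearMap.ext h1⟩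

variable {G : Type*} [Group G] [Finite G] {Ω : Type*} [Finite Ω] [MulAction G Ω] [FaithfulSMul G Ω]
  (hprim : IsPreprimitive G Ω)
  (hep : ∀ (α : Ω) (ω : Ω), IsPreprimitive (stabilizer G α) (orbit (stabilizer G α) ω))
  {α ω : Ω}

include hprim hep

theorem eq_one_of_fix_orbit (hω : ω ≠ α) {h : stabilizer G α}
    (hfix : ∀ x ∈ orbit (stabilizer G α) ω, h • x = x) : h = 1 :=
  Subtype.ext (manning hprim hep α ω hω (h : G) h.2 fun g hg => hfix _ ⟨⟨g, hg⟩, rfl⟩)

theorem suborbit_ne (hH : stabilizer G α ≠ ⊥) (hω : ω ≠ α) :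
    ∃ h : stabilizer G α, h • ω ≠ ω := by
  by_contra hc
  push Not at hc
  obtain ⟨⟨g, hg⟩, hne⟩ : ∃ g : stabilizer G α, g ≠ 1 := by
    haveI := (Subgroup.nontrivial_iff_ne_bot _).2 hH
    exact exists_ne 1
  refine hne (eq_one_of_fix_orbit hprim hep hω ?_)
  rintro _ ⟨a, rfl⟩
  show (⟨g, hg⟩ : stabilizer G α) • a • ω = a • ω
  rw [hc a, hc]

/-- A nontrivial normal subgroup of the stabiliser is transitive on each suborbit. -/
theorem transitive_of_normal (hω : ω ≠ α) (K : Subgroup (stabilizer G α)) [K.Normal] (hK : K ≠ ⊥)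
    {x y : Ω} (hx : x ∈ orbit (stabilizer G α) ω) (hy : y ∈ orbit (stabilizer G α) ω) :
    ∃ k ∈ K, k • x = y := by
  rcases fix_or_transitive (hep α ω) (K.map (stabilizer G α).subtype) (Subgroup.map_subtype_le K)
    (by
      rintro h hh _ ⟨m, hm, rfl⟩
      exact ⟨⟨h, hh⟩ * m * ⟨h, hh⟩⁻¹, Subgroup.Normal.conj_mem inferInstance m hm _, rfl⟩) hx with hf | ht
  · exfalso
    refine hK ((Subgroup.eq_bot_iff_forall _).2 fun k hk => eq_one_of_fix_orbit hprim hep hω fun z hz => ?_)
    exact hf z hz k ⟨k, hk, rfl⟩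
  · obtain ⟨_, ⟨k, hk, rfl⟩, h⟩ := ht y hy
    exact ⟨k, hk, h⟩

/-- An element centralising a nontrivial normal subgroup and fixing a point `≠ α` is trivial. -/
theorem eq_one_of_centralizes (hω : ω ≠ α) (K : Subgroup (stabilizer G α)) [K.Normal] (hK : K ≠ ⊥)
    {c : stabilizer G α} (hc : c ∈ Subgroup.centralizer (K : Set (stabilizer G α))) (hfix : c • ω = ω) :
    c = 1 := by
  refine eq_one_of_fix_orbit hprim hep hω fun x hx => ?_
  obtain ⟨k, hk, rfl⟩ := transitive_of_normal hprim hep hω K hK (mem_orbit_self ω) hx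
  rw [← mul_smul, ← Subgroup.mem_centralizer_iff.1 hc k hk, mul_smul, hfix]

/-- Abelian normal subgroups of the stabiliser are regular on suborbits and self-centralising. -/
theorem abelian_normal (hω : ω ≠ α) (A : Subgroup (stabilizer G α)) [A.Normal] (hA : A ≠ ⊥)
    (hab : ∀ a ∈ A, ∀ b ∈ A, a * b = b * a) :
    Nat.card (orbit (stabilizer G α) ω) = Nat.card A ∧
      Subgroup.centralizer (A : Set (stabilizer G α)) ≤ A := by
  have hAC : A ≤ Subgroup.centralizer (A : Set (stabilizer G α)) := fun a ha =>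
    Subgroup.mem_centralizer_iff.2 fun b hb => hab b hb a ha
  constructor
  · refine (Nat.card_congr (Equiv.ofBijective (fun a : A => (⟨(a : stabilizer G α) • ω, mem_orbit _ _⟩ :
      orbit (stabilizer G α) ω)) ⟨fun a b h => ?_, fun x => ?_⟩)).symm
    · have h' : (a : stabilizer G α) • ω = (b : stabilizer G α) • ω := congrArg Subtype.val h
      have := eq_one_of_centralizes hprim hep hω A hA (hAC (A.mul_mem (A.inv_mem b.2) a.2))
        (by rw [mul_smul, h', inv_smul_smul])
      exact Subtype.ext (inv_mul_eq_one.1 this).symm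
    · obtain ⟨k, hk, h⟩ := transitive_of_normal hprim hep hω A hA (mem_orbit_self ω) x.2
      exact ⟨⟨k, hk⟩, Subtype.ext h⟩
  · intro c hc
    obtain ⟨k, hk, h⟩ := transitive_of_normal hprim hep hω A hA (mem_orbit_self ω) (mem_orbit ω c)
    have h1 : k⁻¹ * c = 1 := eq_one_of_centralizes hprim hep hω A hA
      (mul_mem (inv_mem (hAC hk)) hc) (by rw [mul_smul, ← h, inv_smul_smul])
    rwa [inv_mul_eq_one.1 h1] at hk

theorem minimal_of_abelian (hω : ω ≠ α) (A : Subgroup (stabilizer G α)) [A.Normal] (hA : A ≠ ⊥)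
    (hab : ∀ a ∈ A, ∀ b ∈ A, a * b = b * a) (K : Subgroup (stabilizer G α)) [K.Normal] (hK : K ≠ ⊥)
    (hKA : K ≤ A) : K = A :=
  Subgroup.eq_of_le_of_card_ge hKA (by
    rw [← (abelian_normal hprim hep hω A hA hab).1,
      ← (abelian_normal hprim hep hω K hK fun a ha b hb => hab a (hKA ha) b (hKA hb)).1])

theorem exponent_prime (hω : ω ≠ α) (A : Subgroup (stabilizer G α)) [A.Normal] (hA : A ≠ ⊥)
    (hab : ∀ a ∈ A, ∀ b ∈ A, a * b = b * a) :
    ∃ q e : ℕ, q.Prime ∧ Nat.card A = q ^ e ∧ ∀ a ∈ A, a ^ q = 1 := by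
  haveI : Nontrivial A := (Subgroup.nontrivial_iff_ne_bot _).2 hA
  obtain ⟨q, hq, hqdvd⟩ := Nat.exists_prime_and_dvd (Finite.one_lt_card (α := A)).ne'
  haveI : Fact q.Prime := ⟨hq⟩
  let B : Subgroup (stabilizer G α) :=
    { carrier := {a | a ∈ A ∧ a ^ q = 1}
      one_mem' := ⟨A.one_mem, one_pow q⟩
      mul_mem' := fun {a b} ha hb => ⟨A.mul_mem ha.1 hb.1, by
        rw [(show Commute a b from hab a ha.1 b hb.1).mul_pow, ha.2, hb.2, one_mul]⟩
      inv_mem' := fun {a} ha => ⟨A.inv_mem ha.1, by rw [inv_pow, ha.2, inv_one]⟩ }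
  haveI : B.Normal := ⟨fun a ha g => ⟨Subgroup.Normal.conj_mem inferInstance a ha.1 g,
    by rw [conj_pow, ha.2, mul_one, mul_inv_cancel]⟩⟩
  have hB : B ≠ ⊥ := fun h => by
    obtain ⟨a, ha⟩ := exists_prime_orderOf_dvd_card' (G := A) q hqdvd
    have hmem : (a : stabilizer G α) ∈ B :=
      ⟨a.2, by rw [← ha, ← Subgroup.orderOf_coe, pow_orderOf_eq_one]⟩
    rw [h, Subgroup.mem_bot] at hmem
    exact hq.ne_one (by rw [← ha, ← Subgroup.orderOf_coe, hmem, orderOf_one])
  have hBA : B = A := minimal_of_abelian hprim hep hω A hA hab B hB fun a ha => ha.1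
  have hexp : ∀ a ∈ A, a ^ q = 1 := fun a ha => (hBA.symm ▸ ha : a ∈ B).2
  obtain ⟨e, he⟩ := (IsPGroup.iff_card).1 (show IsPGroup q A from fun a => ⟨1, Subtype.ext (by
    rw [pow_one, Subgroup.coe_pow, hexp a a.2, Subgroup.coe_one])⟩)
  exact ⟨q, e, hq, he, hexp⟩

omit hprim hep in
theorem exists_ne_point (hH : stabilizer G α ≠ ⊥) : ∃ ω : Ω, ω ≠ α := by
  by_contra h
  push Not at h
  refine hH ((Subgroup.eq_bot_iff_forall _).2 fun g _ => FaithfulSMul.eq_of_smul_eq_smul (α := Ω) fun x => ?_)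
  rw [h (g • x), h ((1 : G) • x)]

/-- An abelian normal subgroup acts freely away from `α`. -/
theorem dvd_card_sub_one (A : Subgroup (stabilizer G α)) [A.Normal] (hA : A ≠ ⊥)
    (hab : ∀ a ∈ A, ∀ b ∈ A, a * b = b * a) : Nat.card A ∣ Nat.card Ω - 1 := by
  classical
  let Z := {x : Ω // x ≠ α}
  letI : MulAction A Z :=
    { smul := fun a x => ⟨(a : stabilizer G α) • (x : Ω), fun h => x.2 (smul_left_cancel _
        (h.trans (mem_stabilizer_iff.1 (a : stabilizer G α).2).symm))⟩
      one_smul := fun x => Subtype.ext (one_smul _ _)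
      mul_smul := fun a b x => Subtype.ext (mul_smul _ _ _) }
  have hfree : ∀ z : Z, Nat.card (orbit A z) = Nat.card A := by
    intro z
    refine (Nat.card_congr (Equiv.ofBijective (fun a : A => (⟨a • z, mem_orbit _ _⟩ : orbit A z))
      ⟨fun a b h => ?_, fun x => ?_⟩)).symm
    · have h' : (a : stabilizer G α) • (z : Ω) = (b : stabilizer G α) • (z : Ω) :=
        congrArg Subtype.val (congrArg Subtype.val h)
      have := eq_one_of_centralizes hprim hep z.2 A hA (c := (b : stabilizer G α)⁻¹ * a)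
        (Subgroup.mem_centralizer_iff.2 fun k hk => hab k hk _ (A.mul_mem (A.inv_mem b.2) a.2))
        (by rw [mul_smul, h', inv_smul_smul])
      exact Subtype.ext (inv_mul_eq_one.1 this).symm
    · obtain ⟨a, ha⟩ := x.2
      exact ⟨a, Subtype.ext ha⟩
  have hZ : Nat.card Z = Nat.card Ω - 1 := by
    haveI := Fintype.ofFinite Ω
    rw [Nat.card_eq_fintype_card, Nat.card_eq_fintype_card, Fintype.card_subtype_compl,
      Fintype.card_subtype_eq]
  rw [← hZ, Nat.card_congr (selfEquivSigmaOrbits A Z)]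
  haveI := Fintype.ofFinite (orbitRel.Quotient A Z)
  rw [Nat.card_sigma]
  exact Finset.dvd_sum fun i _ => (hfree i.out).symm ▸ dvd_rfl

end CfsgLib.Extremely
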